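import Groth.Prelude.Def_W4c1nerontoraddGraph
import Mathlib.LinearAlgebra.FiniteDimensional.Lemmas
import Mathlib.LinearAlgebra.Dimension.Constructions
import Mathlib.Algebra.Field.ZMod
import Mathlib.Data.ZMod.Basic
import Mathlib.RingTheory.Coprime.Lemmas
import Mathlib.RingTheory.Int.Basic
import Mathlib.Data.Nat.Factorization.Induction
import Mathlib.Tactic.Ring
import Mathlib.Tactic.LinearCombination

/-!
Incidence vectors of labelled multigraphs: a set of edges carries a linear relation over a field
iff it contains a circuit, and solvability of the congruences along the edges.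
-/

set_option autoImplicit false

universe u

namespace Groth.Agent.Lib.GraphBlowup.Basic

variable {V E : Type u} [Fintype V] [DecidableEq V] (ends : E → V × V)

/-- The incidence vector of an edge. -/
def inc (F : Type*) [Ring F] (e : E) : V → F :=
  fun v => (if (ends e).2 = v then 1 else 0) - (if (ends e).1 = v then 1 else 0)

theorem sum_inc (F : Type*) [Ring F] (e : E) : ∑ v : V, inc ends F e v = 0 := by
  simp [inc, Finset.sum_sub_distrib]

theorem sum_mul_inc (F : Type*) [CommRing F] (e : E) (φ : V → F) :
    ∑ v : V, φ v * inc ends F e v = φ (ends e).2 - φ (ends e).1 := by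
  simp [inc, mul_sub, Finset.sum_sub_distrib]

theorem sum_endCount (C : Finset E) : ∑ v : V, LabGraph.endCount ends C v = 2 * C.card := by
  unfold LabGraph.endCount
  rw [Finset.sum_comm]
  simp [Finset.sum_add_distrib]
  ring

theorem inc_eq_zero_of_endCount (F : Type*) [Ring F] {C : Finset E} {v : V}
    (h : LabGraph.endCount ends C v = 0) {e : E} (he : e ∈ C) : inc ends F e v = 0 := by
  have := Finset.sum_eq_zero_iff.mp h e he
  by_cases h1 : (ends e).1 = v <;> by_cases h2 : (ends e).2 = v <;> simp [h1, h2, inc] at this ⊢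

/-- A nonempty edge set with no end vertex carries a linear relation over every field. -/
theorem exists_relation (F : Type*) [Field F] (C : Finset E) (hC : C.Nonempty)
    (hdeg : ∀ v, LabGraph.endCount ends C v ≠ 1) :
    ∃ a : E → F, (∃ e ∈ C, a e ≠ 0) ∧ ∀ v, ∑ e ∈ C, a e * inc ends F e v = 0 := by
  classical
  let V' : Finset V := Finset.univ.filter fun v => LabGraph.endCount ends C v ≠ 0
  have hle : V'.card * 2 ≤ 2 * C.card := by
    rw [← sum_endCount ends C]
    calc V'.card * 2 = ∑ _v ∈ V', 2 := by simp
      _ ≤ ∑ v ∈ V', LabGraph.endCount ends C v := Finset.sum_le_sum fun v hv => by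
          have := (Finset.mem_filter.mp hv).2
          have := hdeg v
          omega
      _ ≤ _ := Finset.sum_le_sum_of_subset (Finset.subset_univ _)
  let L : (C → F) →ₗ[F] (V' → F) :=
    Fintype.linearCombination F (fun (e : C) (v : V') => inc ends F e.1 v.1)
  have hout : ∀ v : V, v ∉ V' → ∀ e ∈ C, inc ends F e v = 0 := fun v hv e he =>
    inc_eq_zero_of_endCount ends F (by simpa [V'] using hv) he
  have hsum : ∀ a, ∑ v : V', L a v = 0 := by
    intro a
    have h1 : ∀ e : C, ∑ v : V', inc ends F e.1 v.1 = 0 := by
      intro e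
      rw [Finset.sum_coe_sort V' (fun v => inc ends F e.1 v),
        Finset.sum_subset (Finset.subset_univ V') fun v _ hv => hout v hv e.1 e.2]
      exact sum_inc ends F e.1
    simp only [L, Fintype.linearCombination_apply, Finset.sum_apply, Pi.smul_apply, smul_eq_mul]
    rw [Finset.sum_comm]
    exact Finset.sum_eq_zero fun e _ => by rw [← Finset.mul_sum, h1 e, mul_zero]
  by_cases hinj : Function.Injective L
  · exfalso
    have h1 := LinearMap.finrank_le_finrank_of_injective hinj
    simp only [Module.finrank_fintype_fun_eq_card, Fintype.card_coe] at h1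
    have h2 : Module.finrank F (C → F) = Module.finrank F (V' → F) := by
      simp only [Module.finrank_fintype_fun_eq_card, Fintype.card_coe]
      omega
    have hsurj := (LinearMap.injective_iff_surjective_of_finrank_eq_finrank h2).mp hinj
    obtain ⟨v₀, hv₀⟩ : V'.Nonempty := by
      rw [← Finset.card_pos]
      have := hC.card_pos
      omega
    obtain ⟨a, ha⟩ := hsurj (Pi.single ⟨v₀, hv₀⟩ 1)
    have := hsum a
    simp [ha] at this
  · obtain ⟨a, ha, hne⟩ : ∃ a, L a = 0 ∧ a ≠ 0 := by
      by_contra hh
      push Not at hh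
      exact hinj ((injective_iff_map_eq_zero L).mpr hh)
    refine ⟨fun e => if he : e ∈ C then a ⟨e, he⟩ else 0, ?_, fun v => ?_⟩
    · obtain ⟨e, he⟩ := Function.ne_iff.mp hne
      exact ⟨e.1, e.2, by simpa using he⟩
    · by_cases hv : v ∈ V'
      · have := congrFun ha ⟨v, hv⟩
        simp only [L, Fintype.linearCombination_apply, Finset.sum_apply, Pi.smul_apply,
          smul_eq_mul, Pi.zero_apply] at this
        rw [← Finset.sum_coe_sort]
        simpa using this
      · exact Finset.sum_eq_zero fun e he => by rw [hout v hv e he, mul_zero]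

/-- The support of a linear relation contains a circuit. -/
theorem exists_circuit (F : Type*) [Field F] (C : Finset E) (a : E → F)
    (ha : ∃ e ∈ C, a e ≠ 0) (hrel : ∀ v, ∑ e ∈ C, a e * inc ends F e v = 0) :
    ∃ D ⊆ C, LabGraph.IsCircuit ends D := by
  classical
  let S := C.filter fun e => a e ≠ 0
  have hS : S.Nonempty := let ⟨e, he, h⟩ := ha; ⟨e, Finset.mem_filter.mpr ⟨he, h⟩⟩
  have hdeg : ∀ v, LabGraph.endCount ends S v ≠ 1 := by
    intro v hv
    unfold LabGraph.endCount at hv
    obtain ⟨e, he, hne⟩ := Finset.exists_ne_zero_of_sum_ne_zero (hv ▸ one_ne_zero)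
    have hrest := Finset.add_sum_erase S
      (fun e => (if (ends e).1 = v then 1 else 0) + (if (ends e).2 = v then 1 else 0)) he
    have hz : ∀ f ∈ S.erase e, inc ends F f v = 0 := fun f hf =>
      inc_eq_zero_of_endCount ends F (C := S.erase e) (by unfold LabGraph.endCount; omega) hf
    have h0 := hrel v
    rw [← Finset.sum_subset (Finset.filter_subset _ C) (fun f hf hf' => by
      have : a f = 0 := by
        by_contra h
        exact hf' (Finset.mem_filter.mpr ⟨hf, h⟩)
      rw [this, zero_mul]), ← Finset.add_sum_erase S _ he,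
      Finset.sum_eq_zero (fun f hf => by rw [hz f hf, mul_zero]), add_zero] at h0
    have hae := (Finset.mem_filter.mp he).2
    rcases mul_eq_zero.mp h0 with h | h
    · exact hae h
    · by_cases h1 : (ends e).1 = v <;> by_cases h2 : (ends e).2 = v <;>
        simp [h1, h2, inc] at h hne hrest hv
      omega
  obtain ⟨b, ⟨e₀, he₀, hb⟩, hbrel⟩ := exists_relation ends (ZMod 2) S hS hdeg
  let T := S.filter fun e => b e ≠ 0
  have hT : ∀ v, Even (LabGraph.endCount ends T v) := by
    intro v
    rw [← ZMod.natCast_eq_zero_iff_even]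
    unfold LabGraph.endCount
    rw [Nat.cast_sum, Finset.sum_filter]
    refine Eq.trans (Finset.sum_congr rfl fun e _ => ?_) (hbrel v)
    have h01 : ∀ x : ZMod 2, x ≠ 0 → x = 1 := by decide
    have hneg : ∀ x : ZMod 2, -x = x := by decide
    by_cases hbe : b e = 0
    · simp [hbe]
    · rw [if_pos hbe, h01 _ hbe, one_mul, inc, sub_eq_add_neg, hneg, Nat.cast_add, add_comm]
      congr 1 <;> split_ifs <;> simp
  obtain ⟨D, hD⟩ := (T.powerset.filter fun D => D.Nonempty ∧ ∀ v, Even (LabGraph.endCount ends D v))
    |>.exists_minimal ⟨T, Finset.mem_filter.mpr ⟨Finset.mem_powerset_self T,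
      ⟨e₀, Finset.mem_filter.mpr ⟨he₀, hb⟩⟩, hT⟩⟩
  obtain ⟨hDT, hDne, hDev⟩ := Finset.mem_filter.mp hD.1
  rw [Finset.mem_powerset] at hDT
  refine ⟨D, hDT.trans ((Finset.filter_subset _ _).trans (Finset.filter_subset _ _)), hDne, hDev,
    fun D' hlt hne => ?_⟩
  by_contra hh
  push Not at hh
  have hmem : D' ∈ T.powerset.filter fun D => D.Nonempty ∧ ∀ v, Even (LabGraph.endCount ends D v) :=
    Finset.mem_filter.mpr ⟨Finset.mem_powerset.mpr (hlt.subset.trans hDT), hne, hh⟩
  exact hlt.not_subset (hD.2 hmem hlt.subset)

variable [Fintype E] [DecidableEq E]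

/-- The congruences along all edges are solvable iff the graph is circuit-coprime. -/
theorem solvable_iff (l : E → ℕ) (hl : ∀ e, 0 < l e) :
    (∀ c : E → ℤ, ∃ φ : V → ℤ, ∀ e, (l e : ℤ) ∣ φ (ends e).2 - φ (ends e).1 - c e) ↔
      LabGraph.IsCircuitCoprime ends l := by
  classical
  constructor
  · intro h C hC
    by_contra hne
    obtain ⟨q, hq, hdvd⟩ := Nat.exists_prime_and_dvd hne
    have : Fact q.Prime := ⟨hq⟩
    obtain ⟨a, ⟨e₀, he₀, ha⟩, hrel⟩ := exists_relation ends (ZMod q) C hC.1 fun v hv => by
      have := hC.2.1 v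
      rw [hv] at this
      exact absurd this (by decide)
    obtain ⟨φ, hφ⟩ := h (fun e => if e = e₀ then 1 else 0)
    have h1 : ∀ e ∈ C, ∑ v, (φ v : ZMod q) * inc ends (ZMod q) e v =
        if e = e₀ then 1 else 0 := by
      intro e he
      rw [sum_mul_inc]
      have h2 : (q : ℤ) ∣ φ (ends e).2 - φ (ends e).1 - (if e = e₀ then 1 else 0) :=
        (Int.natCast_dvd_natCast.mpr (hdvd.trans (Finset.gcd_dvd he))).trans (hφ e)
      have h3 := (ZMod.intCast_zmod_eq_zero_iff_dvd _ q).mpr h2
      push_cast at h3
      exact sub_eq_zero.mp h3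
    have h4 : ∑ v, (φ v : ZMod q) * ∑ e ∈ C, a e * inc ends (ZMod q) e v = 0 := by simp [hrel]
    simp only [Finset.mul_sum] at h4
    rw [Finset.sum_comm, Finset.sum_congr rfl (g := fun e => a e * if e = e₀ then 1 else 0)
      fun e he => by rw [← h1 e he, Finset.mul_sum]; exact Finset.sum_congr rfl fun v _ => by ring]
      at h4
    simp [he₀] at h4
    exact ha h4
  · intro hcop
    -- solvable modulo every prime
    have hq : ∀ q : ℕ, q.Prime → ∀ c : E → ℤ, ∃ (φ : V → ℤ) (d r : E → ℤ),
        ∀ e, c e = φ (ends e).2 - φ (ends e).1 + l e * d e + q * r e := by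
      intro q hq c
      have : Fact q.Prime := ⟨hq⟩
      let S : Finset E := Finset.univ.filter fun e => q ∣ l e
      have hli : LinearIndependent (ZMod q) (fun e : S => inc ends (ZMod q) e.1) := by
        rw [Fintype.linearIndependent_iff]
        intro g hg
        by_contra hne
        push Not at hne
        obtain ⟨e, he⟩ := hne
        obtain ⟨D, hDS, hD⟩ := exists_circuit ends (ZMod q) S
          (fun f => if hf : f ∈ S then g ⟨f, hf⟩ else 0) ⟨e.1, e.2, by simpa using he⟩ fun v => by
            have := congrFun hg v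
            simp only [Finset.sum_apply, Pi.smul_apply, smul_eq_mul, Pi.zero_apply] at this
            rw [← Finset.sum_coe_sort]
            simpa using this
        have h1 : q ∣ D.gcd l := Finset.dvd_gcd fun f hf => (Finset.mem_filter.mp (hDS hf)).2
        rw [hcop D hD] at h1
        exact hq.one_lt.ne' (Nat.dvd_one.mp h1)
      obtain ⟨f, hf⟩ : ∃ f : (V → ZMod q) →ₗ[ZMod q] (S → ZMod q),
          f.comp (Fintype.linearCombination (ZMod q) fun e : S => inc ends (ZMod q) e.1) =
            LinearMap.id :=
        LinearMap.exists_leftInverse_of_injective _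
          (LinearMap.ker_eq_bot.mpr hli.fintypeLinearCombination_injective)
      let w : V → ZMod q := fun v => ∑ e : S, (c e.1 : ZMod q) * f (Pi.single v 1) e
      refine ⟨fun v => ((w v).val : ℤ), ?_⟩
      have hw : ∀ e : S, w (ends e.1).2 - w (ends e.1).1 = (c e.1 : ZMod q) := by
        intro e
        rw [← sum_mul_inc]
        simp only [w, Finset.sum_mul]
        rw [Finset.sum_comm, Finset.sum_eq_single e]
        · have := congrFun (LinearMap.congr_fun hf (Pi.single e 1)) e
          rw [LinearMap.comp_apply, Fintype.linearCombination_apply_single, one_smul,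
            pi_eq_sum_univ' (inc ends (ZMod q) e.1), map_sum] at this
          simp only [map_smul, Finset.sum_apply, Pi.smul_apply, smul_eq_mul, LinearMap.id_apply,
            Pi.single_eq_same] at this
          calc _ = (c e.1 : ZMod q) * ∑ v, inc ends (ZMod q) e.1 v * f (Pi.single v 1) e := by
                rw [Finset.mul_sum]; exact Finset.sum_congr rfl fun v _ => by ring
            _ = _ := by rw [this, mul_one]
        · intro e' _ hne
          have := congrFun (LinearMap.congr_fun hf (Pi.single e 1)) e'
          rw [LinearMap.comp_apply, Fintype.linearCombination_apply_single, one_smul,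
            pi_eq_sum_univ' (inc ends (ZMod q) e.1), map_sum] at this
          simp only [map_smul, Finset.sum_apply, Pi.smul_apply, smul_eq_mul, LinearMap.id_apply,
            Pi.single_eq_of_ne hne] at this
          calc _ = (c e'.1 : ZMod q) * ∑ v, inc ends (ZMod q) e.1 v * f (Pi.single v 1) e' := by
                rw [Finset.mul_sum]; exact Finset.sum_congr rfl fun v _ => by ring
            _ = 0 := by rw [this, mul_zero]
        · intro h; exact absurd (Finset.mem_univ _) h
      have key : ∀ e, ∃ d r : ℤ, c e = ((w (ends e).2).val : ℤ) - ((w (ends e).1).val : ℤ) +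
          l e * d + q * r := by
        intro e
        by_cases he : e ∈ S
        · have h1 : ((c e - (((w (ends e).2).val : ℤ) - ((w (ends e).1).val : ℤ)) : ℤ) :
              ZMod q) = 0 := by
            push_cast
            rw [ZMod.natCast_zmod_val, ZMod.natCast_zmod_val, hw ⟨e, he⟩, sub_self]
          obtain ⟨r, hr⟩ := (ZMod.intCast_zmod_eq_zero_iff_dvd _ q).mp h1
          exact ⟨0, r, by linear_combination hr⟩
        · have h1 : ¬ q ∣ l e := by simpa [S] using he
          obtain ⟨x, y, hxy⟩ := (Int.isCoprime_iff_nat_coprime.mpr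
            (by simpa using ((Nat.Prime.coprime_iff_not_dvd hq).mpr h1).symm) :
              IsCoprime (l e : ℤ) (q : ℤ))
          refine ⟨(c e - (((w (ends e).2).val : ℤ) - ((w (ends e).1).val : ℤ))) * x,
            (c e - (((w (ends e).2).val : ℤ) - ((w (ends e).1).val : ℤ))) * y, ?_⟩
          linear_combination (-(c e - (((w (ends e).2).val : ℤ) - ((w (ends e).1).val : ℤ)))) * hxy
      choose d r hdr using key
      exact ⟨d, r, hdr⟩
    -- solvable modulo every positive integer
    have hm : ∀ m : ℕ, 0 < m → ∀ c : E → ℤ, ∃ (φ : V → ℤ) (d r : E → ℤ),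
        ∀ e, c e = φ (ends e).2 - φ (ends e).1 + l e * d e + m * r e := by
      intro m
      induction m using Nat.recOnPrimeCoprime with
      | zero => intro h; exact absurd h (lt_irrefl 0)
      | prime_pow q i hq' =>
        intro _
        induction i with
        | zero => intro c; exact ⟨0, 0, c, fun e => by simp⟩
        | succ i ih =>
          intro c
          obtain ⟨φ, d, r, h⟩ := hq q hq' c
          obtain ⟨φ', d', r', h'⟩ := ih (pow_pos hq'.pos i) r
          exact ⟨φ + (q : ℤ) • φ', d + (q : ℤ) • d', r', fun e => by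
            rw [h e, h' e]
            simp only [Pi.add_apply, Pi.smul_apply, smul_eq_mul, Nat.cast_pow]
            ring⟩
      | coprime a b ha hb _ iha ihb =>
        intro _ c
        obtain ⟨φ, d, r, h⟩ := iha (by omega) c
        obtain ⟨φ', d', r', h'⟩ := ihb (by omega) r
        exact ⟨φ + (a : ℤ) • φ', d + (a : ℤ) • d', r', fun e => by
          rw [h e, h' e]
          simp only [Pi.add_apply, Pi.smul_apply, smul_eq_mul, Nat.cast_mul]
          ring⟩
    intro c
    obtain ⟨φ, d, r, h⟩ := hm (∏ e, l e) (Finset.prod_pos fun e _ => hl e) c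
    refine ⟨φ, fun e => ?_⟩
    obtain ⟨k, hk⟩ : (l e : ℤ) ∣ ((∏ e, l e : ℕ) : ℤ) :=
      Int.natCast_dvd_natCast.mpr (Finset.dvd_prod_of_mem l (Finset.mem_univ e))
    exact ⟨-(d e + k * r e), by rw [h e, hk]; ring⟩

end Groth.Agent.Lib.GraphBlowup.Basic
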