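import Groth.Agent.Lib.GraphBlowup.Basic

/-!
Correcting a labelling of the blow-up graph along the paths.
-/

set_option autoImplicit false

universe u

namespace Groth.Agent.Lib.GraphBlowup.Path

variable {V E : Type u} [Fintype V] [Fintype E] [DecidableEq V] [DecidableEq E]
  (ends : E → V × V) (l : E → ℕ)

theorem pathVert_inner (e : E) (j : ℕ) (h0 : j ≠ 0) (h : j < l e) :
    LabGraph.pathVert ends l e j = Sum.inr ⟨e, ⟨j - 1, by omega⟩⟩ := by
  simp [LabGraph.pathVert, h0, h]

theorem pathVert_eq_inr {e e' : E} {j : ℕ} {i : Fin (l e - 1)} (hj : j ≤ l e') :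
    LabGraph.pathVert ends l e' j = Sum.inr ⟨e, i⟩ ↔ e' = e ∧ j = i.1 + 1 := by
  constructor
  · intro h
    unfold LabGraph.pathVert at h
    split_ifs at h with h0 h1
    simp only [Sum.inr.injEq] at h
    obtain ⟨rfl, h2⟩ := Sigma.mk.inj_iff.mp h
    refine ⟨rfl, ?_⟩
    have := congrArg Fin.val (eq_of_heq h2)
    simp only at this
    omega
  · rintro ⟨rfl, rfl⟩
    have := i.2
    rw [pathVert_inner ends l e' _ (Nat.succ_ne_zero _) (by omega)]
    simp

/-- The multidegree at a new vertex is the second difference along its path. -/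
theorem mdeg_inr (ψ : LabGraph.BlVert V E l → ℤ) (e : E) (i : Fin (l e - 1)) :
    LabGraph.mdeg (LabGraph.blEnds ends l) (fun _ => 1) ψ (Sum.inr ⟨e, i⟩) =
      ψ (LabGraph.pathVert ends l e (i.1 + 2)) - 2 * ψ (LabGraph.pathVert ends l e (i.1 + 1)) +
        ψ (LabGraph.pathVert ends l e i.1) := by
  classical
  have hi := i.2
  let a : LabGraph.BlEdge E l := ⟨e, ⟨i.1 + 1, by omega⟩⟩
  let b : LabGraph.BlEdge E l := ⟨e, ⟨i.1, by omega⟩⟩
  unfold LabGraph.mdeg
  simp only [Nat.cast_one, Int.ediv_one, Finset.sum_add_distrib]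
  rw [Finset.sum_eq_single a, Finset.sum_eq_single b]
  · have ha : (LabGraph.blEnds ends l a).1 = Sum.inr ⟨e, i⟩ :=
      (pathVert_eq_inr ends l (e' := e) (by omega)).mpr ⟨rfl, rfl⟩
    have hb : (LabGraph.blEnds ends l b).2 = Sum.inr ⟨e, i⟩ :=
      (pathVert_eq_inr ends l (e' := e) (by omega)).mpr ⟨rfl, rfl⟩
    rw [if_pos ha, if_pos hb]
    simp only [LabGraph.blEnds, a, b]
    ring
  · rintro ⟨e', k⟩ _ hne
    rw [if_neg]
    intro h
    obtain ⟨h1, h2⟩ := (pathVert_eq_inr ends l (Nat.succ_le_of_lt k.2)).mp h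
    obtain rfl := h1
    exact hne (Sigma.ext rfl (heq_of_eq (Fin.ext (Nat.succ.inj h2))))
  · simp
  · rintro ⟨e', k⟩ _ hne
    rw [if_neg]
    intro h
    obtain ⟨h1, h2⟩ := (pathVert_eq_inr ends l k.2.le).mp h
    obtain rfl := h1
    exact hne (Sigma.ext rfl (heq_of_eq (Fin.ext h2)))
  · simp

theorem correctable_iff (hl : ∀ e, 0 < l e) :
    (∀ β : LabGraph.BlVert V E l → ℤ, ∃ (ψ : LabGraph.BlVert V E l → ℤ) (α : V → ℤ),
        ∀ w : LabGraph.BlVert V E l,
          LabGraph.mdeg (LabGraph.blEnds ends l) (fun _ => 1) ψ w + β w =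
            Sum.elim α (fun _ => (0 : ℤ)) w) ↔
      ∀ c : E → ℤ, ∃ φ : V → ℤ, ∀ e, (l e : ℤ) ∣ φ (ends e).2 - φ (ends e).1 - c e := by
  classical
  constructor
  · intro h c
    obtain ⟨ψ, α, hψ⟩ := h (Sum.elim (fun _ => 0) fun s => if s.2.1 + 2 = l s.1 then -c s.1 else 0)
    refine ⟨fun v => ψ (Sum.inl v), fun e => ?_⟩
    by_cases h1 : l e = 1
    · simp [h1]
    let a : ℕ → ℤ := fun j => ψ (LabGraph.pathVert ends l e j)
    have hrec : ∀ j, j + 2 ≤ l e →
        a (j + 2) - 2 * a (j + 1) + a j + (if j + 2 = l e then -c e else 0) = 0 := by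
      intro j hj
      have := hψ (Sum.inr ⟨e, ⟨j, by omega⟩⟩)
      rw [mdeg_inr] at this
      simpa [a] using this
    have hlin : ∀ j, j + 1 ≤ l e → a j = a 0 + j * (a 1 - a 0) := by
      intro j
      induction j using Nat.twoStepInduction with
      | zero => intro _; simp
      | one => intro _; simp
      | more j ih ih' =>
        intro hj
        have := hrec j (by omega)
        rw [if_neg (by omega)] at this
        have e1 := ih (by omega)
        have e2 := ih' (by omega)
        push_cast at e1 e2 ⊢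
        linear_combination this + 2 * e2 - e1
    obtain ⟨n, hn⟩ : ∃ n, l e = n + 2 := ⟨l e - 2, by have := hl e; omega⟩
    have := hrec n (by omega)
    rw [if_pos hn.symm] at this
    have ha0 : a 0 = ψ (Sum.inl (ends e).1) := by simp [a, LabGraph.pathVert]
    have hal : a (n + 2) = ψ (Sum.inl (ends e).2) := by simp [a, LabGraph.pathVert, hn]
    refine ⟨a 1 - a 0, ?_⟩
    have e1 := hlin n (by omega)
    have e2 := hlin (n + 1) (by omega)
    show ψ (Sum.inl (ends e).2) - ψ (Sum.inl (ends e).1) - c e = _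
    rw [← hal, ← ha0, hn]
    push_cast at e1 e2 ⊢
    linear_combination this + 2 * e2 - e1
  · intro h β
    let b : E → ℕ → ℤ := fun e m => if hm : m < l e - 1 then β (Sum.inr ⟨e, ⟨m, hm⟩⟩) else 0
    let S : E → ℕ → ℤ := fun e i => ∑ m ∈ Finset.range i, b e m
    let w : E → ℕ → ℤ := fun e j => -∑ i ∈ Finset.range j, S e i
    obtain ⟨φ, hφ⟩ := h (fun e => w e (l e))
    choose d hd using hφ
    let ψ : LabGraph.BlVert V E l → ℤ :=
      Sum.elim φ fun s => φ (ends s.1).1 + (s.2.1 + 1 : ℕ) * d s.1 + w s.1 (s.2.1 + 1)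
    refine ⟨ψ, fun v => LabGraph.mdeg (LabGraph.blEnds ends l) (fun _ => 1) ψ (Sum.inl v) +
      β (Sum.inl v), ?_⟩
    rintro (v | ⟨e, i⟩)
    · rfl
    · have ha : ∀ j, j ≤ l e → ψ (LabGraph.pathVert ends l e j) = φ (ends e).1 + j * d e + w e j := by
        intro j hj
        rcases Nat.eq_zero_or_pos j with rfl | hpos
        · simp [ψ, w, LabGraph.pathVert]
        rcases lt_or_eq_of_le hj with hlt | heq
        · rw [pathVert_inner ends l e j hpos.ne' hlt]
          show φ (ends e).1 + ((j - 1 + 1 : ℕ) : ℤ) * d e + w e (j - 1 + 1) = _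
          rw [Nat.sub_add_cancel hpos]
        · subst heq
          have h1 : LabGraph.pathVert ends l e (l e) = Sum.inl (ends e).2 := by
            simp [LabGraph.pathVert, hpos.ne']
          rw [h1]
          show φ (ends e).2 = _
          linear_combination hd e
      have hi := i.2
      rw [mdeg_inr, ha _ (by omega), ha _ (by omega), ha _ (by omega)]
      have hb : b e i.1 = β (Sum.inr ⟨e, i⟩) := by simp [b, i.2]
      have hs : S e (i.1 + 1) = S e i.1 + b e i.1 := Finset.sum_range_succ _ _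
      have hw : ∀ j, w e (j + 1) = w e j - S e j := fun j => by
        simp only [w, Finset.sum_range_succ]
        ring
      rw [hw (i.1 + 1), hw i.1, hs, ← hb]
      simp only [Sum.elim_inr]
      push_cast
      ring

end Groth.Agent.Lib.GraphBlowup.Path
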